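import Groth.Agent.CycLib.Chern.Bundle
import Groth.Agent.CycLib.Chern.Fundamental
import Groth.Agent.CycLib.Chern.Segre
import Groth.Agent.CycLib.IntChain
import Groth.Agent.CycLib.IntIntegral
import Groth.Agent.CycLib.CurveNef
import Groth.Agent.NakaiLib.ProperKleiman
import Groth.Agent.S12672
import Groth.Agent.S1855

/-! # Degrees of nef bundles on curves

The degree of a nef bundle is the top self-intersection of the tautological sheaf, hence nonnegative.
-/

set_option autoImplicit false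
set_option backward.isDefEq.respectTransparency false
set_option linter.style.haveILetI false

universe u

open CategoryTheory CategoryTheory.Limits AlgebraicGeometry TopologicalSpace

noncomputable section

namespace Groth.Agent.NefBundleLib

theorem finrank_comp {A B C : Type u} [Field A] [Field B] [Field C] (φ : A →+* B) (ψ : B →+* C)
    (χ : A →+* C) (hχ : χ = ψ.comp φ) :
    @Module.finrank A C _ _ χ.toAlgebra.toModule =
      @Module.finrank A B _ _ φ.toAlgebra.toModule * @Module.finrank B C _ _ ψ.toAlgebra.toModule := by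
  subst hχ
  letI := φ.toAlgebra
  letI := ψ.toAlgebra
  letI := (ψ.comp φ).toAlgebra
  haveI : IsScalarTower A B C := IsScalarTower.of_algebraMap_eq fun _ => rfl
  exact (Module.finrank_mul_finrank A B C).symm

theorem residueDegree_comp {X Y Z : Scheme.{u}} (f : X ⟶ Y) (g : Y ⟶ Z) (x : X) :
    (f ≫ g).residueDegree x = g.residueDegree (f x) * f.residueDegree x :=
  finrank_comp (g.residueFieldMap (f x)).hom (f.residueFieldMap x).hom ((f ≫ g).residueFieldMap x).hom
    (congrArg CommRingCat.Hom.hom (Scheme.residueFieldMap_comp f g x))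

variable (k : Type u) [Field k] {X : Scheme.{u}} [X.Over (Spec (CommRingCat.of k))]
  [IsProper (X ↘ Spec (CommRingCat.of k))] {δ : X → ℤ}
  (hδ : Cyc.DeltaCompat (X ↘ Spec (CommRingCat.of k)) δ (fun _ => 0))

/-- The degree of a zero cycle. -/
def zdeg (c : X → ℤ) : ℤ := ∑ᶠ x : X, c x * ((X ↘ Spec (CommRingCat.of k)).residueDegree x : ℤ)

include k in
theorem finite_support (c : AlgebraicCycle X ℤ) : (Function.support ⇑c).Finite :=
  (CycLib.finite_window (X ↘ Spec (CommRingCat.of k)) c (IsLocalRing.closedPoint k)).subset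
    fun x hx => ⟨Subsingleton.elim (α := PrimeSpectrum k) _ _, hx⟩

theorem zdeg_add (a b : AlgebraicCycle X ℤ) : zdeg k ⇑(a + b) = zdeg k ⇑a + zdeg k ⇑b := by
  rw [zdeg, zdeg, zdeg, ← finsum_add_distrib ((finite_support k a).subset fun x hx => left_ne_zero_of_mul hx)
    ((finite_support k b).subset fun x hx => left_ne_zero_of_mul hx)]
  exact finsum_congr fun x => add_mul _ _ _

theorem zdeg_smul (m : ℤ) (a : AlgebraicCycle X ℤ) : zdeg k ⇑(m • a) = m * zdeg k ⇑a := by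
  rw [zdeg, zdeg, mul_finsum]
  exact finsum_congr fun x => mul_assoc m _ _

include hδ in
theorem deg_eq_zdeg (c : AlgebraicCycle X ℤ) :
    ChowOps.deg (X ↘ Spec (CommRingCat.of k)) δ c = zdeg k ⇑c := by
  change ∑ᶠ x ∈ (X ↘ Spec (CommRingCat.of k)) ⁻¹' {IsLocalRing.closedPoint k},
    c x * (AlgebraicCycle.mapCoeff (X ↘ Spec (CommRingCat.of k)) δ (fun _ => (0 : ℤ)) x : ℤ) = _
  rw [show (X ↘ Spec (CommRingCat.of k)) ⁻¹' {IsLocalRing.closedPoint k} = Set.univ from
    Set.eq_univ_of_forall fun x => Subsingleton.elim (α := PrimeSpectrum k) _ _, finsum_mem_univ]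
  exact finsum_congr fun x => by rw [CycLib.residueDegree_eq_mapCoeff _ hδ x]

include hδ in
theorem zdeg_eq_zero (c : AlgebraicCycle X ℤ) (hc : c ∈ Cyc.Zk X δ 0) (h : Cyc.RatEquivZero δ 0 c) :
    zdeg k ⇑c = 0 := by
  have h0 : (0 : AlgebraicCycle X ℤ) ∈ Cyc.Zk X δ 0 := fun _ _ => rfl
  obtain ⟨ι, ξ, f, hξ, -, -, hsum⟩ := S1855.result X _ δ (fun _ => 0) (CycLib.isSetup_of_field k δ hδ)
    (CycLib.isSetup_spec_field k) (X ↘ Spec (CommRingCat.of k)) hδ 0 c 0 hc h0
    (show Cyc.RatEquivZero δ 0 (c - 0) by rwa [sub_zero])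
  haveI : IsEmpty ι := ⟨fun i => absurd (hξ i) (by simp)⟩
  have h1 := hsum (IsLocalRing.closedPoint k)
  rw [finsum_of_isEmpty, Function.locallyFinsuppWithin.coe_sub, Pi.sub_apply] at h1
  have h2 : ChowOps.deg (X ↘ Spec (CommRingCat.of k)) δ c =
      ChowOps.deg (X ↘ Spec (CommRingCat.of k)) δ 0 := sub_eq_zero.1 h1
  rw [deg_eq_zdeg k hδ, deg_eq_zdeg k hδ] at h2
  rw [h2]
  exact finsum_eq_zero_of_forall_eq_zero fun x => zero_mul _

include hδ in
theorem zdeg_map {P : Scheme.{u}} [P.Over (Spec (CommRingCat.of k))] [IsProper (P ↘ Spec (CommRingCat.of k))]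
    (p : P ⟶ X) [IsProper p] (hp : p ≫ (X ↘ Spec (CommRingCat.of k)) = P ↘ Spec (CommRingCat.of k))
    {δP : P → ℤ} (hδP : Cyc.DeltaCompat (P ↘ Spec (CommRingCat.of k)) δP (fun _ => 0)) (c : AlgebraicCycle P ℤ) :
    zdeg k ⇑(AlgebraicCycle.map p δP δ c) = zdeg k ⇑c := by
  classical
  have hfin := finite_support k c
  have hd := CycLib.deltaCompat_of_over k hp hδP hδ
  have hmap : ∀ x, AlgebraicCycle.map p δP δ c x =
      ∑ w ∈ hfin.toFinset.filter (fun w => p w = x), c w * (p.residueDegree w : ℤ) := fun x => by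
    rw [CycLib.map_apply_eq_sum p c x hfin.toFinset fun w _ h => hfin.mem_toFinset.2 h, Finset.sum_filter]
    refine Finset.sum_congr rfl fun w _ => ?_
    rw [Set.indicator_apply, CycLib.residueDegree_eq_mapCoeff p hd w]
    rfl
  rw [zdeg, zdeg, finsum_eq_sum_of_support_subset (s := hfin.toFinset.image p) _ ?_,
    finsum_eq_sum_of_support_subset (s := hfin.toFinset) _ fun w hw => hfin.mem_toFinset.2 (left_ne_zero_of_mul hw),
    ← Finset.sum_fiberwise_of_maps_to (g := p) (t := hfin.toFinset.image p) fun w hw => Finset.mem_image_of_mem p hw]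
  · refine Finset.sum_congr rfl fun x _ => ?_
    rw [hmap, Finset.sum_mul]
    refine Finset.sum_congr rfl fun w hw => ?_
    obtain ⟨-, rfl⟩ := Finset.mem_filter.1 hw
    rw [← hp, residueDegree_comp, Nat.cast_mul]
    ring
  · intro x hx
    by_contra hne
    refine left_ne_zero_of_mul hx ?_
    rw [hmap, Finset.filter_false_of_mem fun w hw (e : p w = x) => hne (Finset.mem_coe.2 (Finset.mem_image.2 ⟨w, hw, e⟩)),
      Finset.sum_empty]

include hδ in
/-- The degree of a bundle through the top power of the tautological sheaf. -/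
theorem deg_eq_zdeg_seq (hdim : topologicalKrullDim X ≤ 1) {n : ℕ} {E : X.Modules}
    (hE : FlatMod.IsFinLocFreeOfRank (n + 1) E) {P : Scheme.{u}} [P.Over (Spec (CommRingCat.of k))]
    [IsProper (P ↘ Spec (CommRingCat.of k))] [IsLocallyNoetherian P] [IsLocallyNoetherian X]
    {p : P ⟶ X} [IsProper p] (hp : p ≫ (X ↘ Spec (CommRingCat.of k)) = P ↘ Spec (CommRingCat.of k))
    {O1 : P.Modules} {q : (Scheme.Modules.pullback p).obj E ⟶ O1} (hP : KRR.IsProjBundle p E O1 q)
    {δP : P → ℤ} (hδP : Cyc.DeltaCompat (P ↘ Spec (CommRingCat.of k)) δP (fun _ => 0))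
    (S : CycLib.PB.Setting p O1 δP δ n) (t : ℕ → (ξ : P) → Cyc.secFibre O1 ξ) (ht : ∀ i ξ, t i ξ ≠ 0)
    (α : AlgebraicCycle X ℤ) (hα : ⇑α = Cyc.subschemeFun δ 1 (𝟙 X)) (hαk : α ∈ Cyc.Zk X δ 1) :
    Curv2.deg k X E (n + 1) = zdeg k ⇑(S.seq t α (n + 1)) := by
  classical
  obtain ⟨γ, hγ⟩ := S.exists_chern α hαk
  obtain ⟨h0, hmem, hrel⟩ := (S.isChernCap_iff t ht).1 hγ
  have hz : ∀ j : Fin (n + 1 + 1), 2 ≤ (j : ℕ) → γ j = 0 := fun j hj => by
    ext x
    refine hmem j x fun e => ?_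
    obtain ⟨m, hm, -⟩ := CycLib.delta_dim k δ hδ x
    omega
  have h1 : γ 1 ∈ Cyc.Zk X δ 0 := by
    have := hmem 1
    rwa [show (1 : ℤ) - (((1 : Fin (n + 1 + 1)) : ℕ) : ℤ) = 0 by simp] at this
  have hsum : S.relSum t γ =
      (-1 : ℤ) ^ n • S.seq t (γ 1) n + (-1 : ℤ) ^ (n + 1) • S.seq t α (n + 1) := by
    rw [CycLib.PB.Setting.relSum, Fin.sum_univ_castSucc, Fin.rev_last, h0, Fin.val_last,
      Finset.sum_eq_single_of_mem (Fin.last n) (Finset.mem_univ _) fun i _ hi => ?_]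
    · rw [Fin.val_castSucc, Fin.val_last, Fin.rev_castSucc, Fin.rev_last, Fin.succ_zero_eq_one]
    · have hlt : (i : ℕ) < n := lt_of_le_of_ne (Nat.lt_succ_iff.1 i.2) fun e => hi (Fin.ext e)
      rw [hz _ (by rw [Fin.val_rev, Fin.val_castSucc]; omega), S.seq_zero, smul_zero]
  have hk : S.relSum t γ ∈ Cyc.Zk P δP 0 := by
    rw [hsum]
    intro w hw
    have a1 := S.seq_mem_Zk t h1 n w (by omega)
    have a2 := S.seq_mem_Zk t hαk (n + 1) w (by push_cast; omega)
    show (-1 : ℤ) ^ n * S.seq t (γ 1) n w + (-1 : ℤ) ^ (n + 1) * S.seq t α (n + 1) w = 0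
    rw [a1, a2, mul_zero, mul_zero, add_zero]
  rw [sub_self] at hrel
  have hd := zdeg_eq_zero k hδP _ hk hrel
  rw [hsum, zdeg_add, zdeg_smul, zdeg_smul, ← zdeg_map k hδ p hp hδP (S.seq t (γ 1) n),
    S.mapHom_seq_self t ht h1, pow_succ] at hd
  have hX := CycLib.isSetup_of_field k δ hδ
  rw [S12672.result k X hdim δ hX hδ (n + 1) E hE P p O1 q hP δP S.hP S.hδ α hα γ hγ,
    dif_pos (Nat.le_add_left 1 n), deg_eq_zdeg k hδ]
  have he : (⟨1, Nat.lt_succ_of_le (Nat.le_add_left 1 n)⟩ : Fin (n + 1 + 1)) = 1 := rfl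
  rw [he]
  have : (-1 : ℤ) ^ n * (zdeg k ⇑(γ 1) - zdeg k ⇑(S.seq t α (n + 1))) = 0 := by rw [mul_sub]; linarith
  exact sub_eq_zero.1 ((mul_eq_zero.1 this).resolve_left (pow_ne_zero _ (by norm_num)))

include hδ in
/-- Powers of a nef line bundle have nonnegative degree on effective cycles. -/
theorem zdeg_seq_nonneg {L : X.Modules} (hL : PicF.IsInvertible L) (hn : Nakai.NefP k hL)
    (t : ℕ → (ξ : X) → Cyc.secFibre L ξ) (ht : ∀ i ξ, t i ξ ≠ 0) (r : ℕ) (g : ℕ → X → ℤ)
    (hfin : (Function.support (g 0)).Finite) (hd : ∀ ξ, g 0 ξ ≠ 0 → δ ξ = r) (hpos : ∀ ξ, 0 ≤ g 0 ξ)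
    (hg : ∀ i, g (i + 1) = Cyc.c1CapFun δ L (g i) (t i)) : 0 ≤ zdeg k (g r) := by
  haveI := EulerIneqLib.isNoetherian_proper (X := X) k
  obtain ⟨N, hN, ⟨η⟩⟩ := AmpleEmb.exists_isInverseOf hL
  obtain ⟨hf, hd', he⟩ := CycLib.pairing_chain k hδ r (fun _ => L) (fun _ => N) (fun _ => hL) (fun _ => hN)
    (fun _ => ⟨AmpleLib.comm N L ≪≫ η⟩) (fun i => t i) (fun i ξ => ht i ξ) g hfin hd (fun i _ => hg i)
  have hr : zdeg k (g r) = ∑ᶠ ξ, g r ξ * IntLib.pairing k (IntLib.compMod ξ) 1 := finsum_congr fun ξ => by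
    by_cases h : g r ξ = 0
    · rw [h, zero_mul, zero_mul]
    · rw [CycLib.pairing_compMod_one k hδ (hd' ξ h)]
  rw [hr, ← he]
  refine finsum_nonneg fun ξ => ?_
  by_cases h : g 0 ξ = 0
  · rw [h, zero_mul]
  refine mul_nonneg (hpos ξ) ?_
  have hdim : topologicalKrullDim (CohB1.support (IntLib.compMod ξ)) < ((r + 1 : ℕ) : WithBot ℕ∞) :=
    (CycLib.dim_support_compMod_le k hδ ξ (hd ξ h)).trans_lt (by exact_mod_cast Nat.lt_succ_self r)
  have hc := (IntLib.isPiece_compMod ξ).coh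
  rw [Finset.prod_const, Finset.card_univ, Fintype.card_fin,
    Nakai.pairing_congr k (Nakai.pow_sub_pow_mem (by
      rw [← neg_neg (IntLib.dif hN), ← Nakai.cl_eq_neg_dif]
      exact neg_mem (Nakai.cl_mem hN)) (Nakai.cl_mem hL) (by
      rw [← neg_sub]
      exact neg_mem (Nakai.cl_mul_inverse_mem hL hN η)) r) hc hdim]
  exact Nakai.kleiman k hn hc hdim

/-- Nefness of a module in the curve test sense, on a curve. -/
def QuotNef (E : X.Modules) : Prop :=
  ∀ (N : Scheme.{u}) [N.Over (Spec (CommRingCat.of k))] [IsProper (N ↘ Spec (CommRingCat.of k))] [IsIntegral N],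
    topologicalKrullDim N = 1 → (∀ x : N, IsRegularLocalRing (N.presheaf.stalk x)) →
    ∀ (f : N ⟶ X), f ≫ (X ↘ Spec (CommRingCat.of k)) = N ↘ Spec (CommRingCat.of k) →
    ∀ (M : N.Modules), PicF.IsInvertible M →
    ∀ (q : (Scheme.Modules.pullback f).obj E ⟶ M), Epi q → 0 ≤ Curv2.deg k N M 1

theorem quotNef_pullback {E : X.Modules} (h : QuotNef k E) {C : Scheme.{u}} [C.Over (Spec (CommRingCat.of k))]
    [IsProper (C ↘ Spec (CommRingCat.of k))] (f : C ⟶ X)
    (hf : f ≫ (X ↘ Spec (CommRingCat.of k)) = C ↘ Spec (CommRingCat.of k)) :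
    QuotNef k ((Scheme.Modules.pullback f).obj E) := fun N _ _ _ hN hreg g hg M hM q _ =>
  h N hN hreg (g ≫ f) (by rw [Category.assoc, hf, hg]) M hM
    (((Scheme.Modules.pullbackComp g f).app E).inv ≫ q) (epi_comp _ _)

theorem QuotNef.of_epi {E F : X.Modules} (h : QuotNef k E) (φ : E ⟶ F) [Epi φ] : QuotNef k F :=
  fun N _ _ _ hN hreg g hg M hM q _ => by
    haveI : Epi ((Scheme.Modules.pullback g).map φ) :=
      haveI := (Scheme.Modules.pullbackPushforwardAdjunction g).leftAdjoint_preservesColimits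
      inferInstance
    exact h N hN hreg g hg M hM ((Scheme.Modules.pullback g).map φ ≫ q) (epi_comp _ _)

/-- The tautological sheaf of a nef bundle is nef. -/
theorem nefP_of_quotNef {E : X.Modules} (h : QuotNef k E) {P : Scheme.{u}} [P.Over (Spec (CommRingCat.of k))]
    [IsProper (P ↘ Spec (CommRingCat.of k))] {p : P ⟶ X}
    (hp : p ≫ (X ↘ Spec (CommRingCat.of k)) = P ↘ Spec (CommRingCat.of k)) {O1 : P.Modules}
    (hO : PicF.IsInvertible O1) (q : (Scheme.Modules.pullback p).obj E ⟶ O1) [Epi q] : Nakai.NefP k hO := by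
  intro ξ hξ
  obtain ⟨δP, hδP⟩ := CycLib.exists_delta k P
  haveI := EulerIneqLib.isNoetherian_proper (X := P) k
  have hξ1 : δP ξ = 1 := CycLib.delta_eq_of_dim k hδP ξ (t := 1) hξ
  obtain ⟨N, _, _, _, g, hg, hgξ, hN, hreg⟩ := CycLib.exists_regular_curve k hδP ξ hξ1
  obtain ⟨q', hq'⟩ := CycLib.exists_epi_comp g p q
  have hdeg := h N hN hreg (g ≫ p) (by rw [Category.assoc, hp, hg]) _ (AmpleLib.isInvertible_pullback g hO) q' hq'
  have h2 := CycLib.pairing_nonpos_of_deg k hN g hg hδP (by rw [hgξ]; exact hξ1) hO hdeg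
  rw [hgξ] at h2
  rw [Nakai.cl_eq_neg_dif, map_neg]
  show 0 ≤ -IntLib.pairing k (IntLib.compMod ξ) (IntLib.dif hO)
  linarith

/-- A nef bundle on a complete integral curve has nonnegative degree. -/
theorem deg_nonneg [IsIntegral X] (hdim : topologicalKrullDim X = 1) {r : ℕ} {E : X.Modules}
    (hE : FlatMod.IsFinLocFreeOfRank r E) (h : QuotNef k E) : 0 ≤ Curv2.deg k X E r := by
  classical
  haveI := EulerIneqLib.isNoetherian_proper (X := X) k
  rcases r with _ | n
  · simp [Curv2.deg, DegDevLib.euler_isZero k (CycLib.isZero_of_rank_zero hE)]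
  obtain ⟨δ, hδ⟩ := CycLib.exists_delta k X
  obtain ⟨P, p, O1, φ, ⟨D⟩⟩ := ProjBundleLib.exists_bundle (GrassShLib.isCoh_of_rank hE).1
  obtain ⟨q, hP⟩ : ∃ q, KRR.IsProjBundle p E O1 q := ⟨_, (GrassShLib.isGrass_of_pdata D).isProjBundle⟩
  haveI : IsProper p := D.isProper (GrassShLib.isCoh_of_rank hE).2
  letI : P.Over (Spec (CommRingCat.of k)) := ⟨p ≫ (X ↘ Spec (CommRingCat.of k))⟩
  haveI : IsProper (P ↘ Spec (CommRingCat.of k)) :=
    (inferInstanceAs (IsProper (p ≫ (X ↘ Spec (CommRingCat.of k)))))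
  haveI := EulerIneqLib.isNoetherian_proper (X := P) k
  obtain ⟨δP, hδP⟩ := CycLib.exists_delta k P
  have hX := CycLib.isSetup_of_field k δ hδ
  have S := CycLib.PB.setting_of_isProjBundle hE hP hX (CycLib.isSetup_of_field k δP hδP)
    (CycLib.deltaCompat_of_over k rfl hδP hδ)
  obtain ⟨hη, -⟩ := CycLib.deg_eq_neg_pairing_generic k hdim hδ (ParaFLib.isInvertible_structureModule (X := X))
  obtain ⟨α, hαk, hα, -, -⟩ := CycLib.exists_fundamental hX hη
  obtain ⟨s, hs⟩ := CycLib.exists_secs S.inv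
  haveI := hP.epi
  rw [deg_eq_zdeg_seq k hδ hdim.le hE rfl hP hδP S (fun _ => s) (fun _ => hs) α hα hαk]
  refine zdeg_seq_nonneg k hδP S.inv (nefP_of_quotNef k h rfl S.inv q) (fun _ => s) (fun _ => hs) (n + 1)
    (fun i => ⇑(S.seq (fun _ => s) α i)) (finite_support k _) (fun w hw => ?_) (fun w => ?_) (fun i => rfl)
  · by_contra hne
    exact hw (S.seq_mem_Zk (fun _ => s) hαk 0 w (by push_cast; omega))
  · show 0 ≤ S.pullC α w
    rw [S.coe_pullC, S.pullFun_eq, hα, Cyc.subschemeFun]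
    split_ifs
    · exact finsum_nonneg fun z => finsum_nonneg fun _ => Int.natCast_nonneg _
    all_goals exact le_rfl

end Groth.Agent.NefBundleLib
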