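import Groth.Agent.ExtPowLib.Unique
import Groth.Agent.KVbLib.Rank
import Groth.Agent.DetLib.AffTensor

/-! # Exterior powers as quotients of tensor products -/

set_option autoImplicit false
set_option backward.isDefEq.respectTransparency false
set_option linter.style.haveILetI false

universe u

open CategoryTheory CategoryTheory.Limits AlgebraicGeometry TopologicalSpace Opposite
open Groth.Agent.DCohLib
open scoped TensorProduct
open exteriorPower

noncomputable section

namespace Groth.Agent.NefBundleLib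

section Alg

variable (R : Type u) [CommRing R] (M : Type u) [AddCommGroup M] [Module R M] (n : ℕ)

theorem mul_mem (x : ↥(⋀[R]^n M)) (m : M) : (x : ExteriorAlgebra R M) * ExteriorAlgebra.ι R m ∈ ⋀[R]^(n + 1) M := by
  have h := x.2
  show _ ∈ LinearMap.range (ExteriorAlgebra.ι R : M →ₗ[R] _) ^ (n + 1)
  rw [pow_succ]
  exact Submodule.mul_mem_mul h ⟨m, rfl⟩

/-- Multiplication with a vector. -/
def wedgeR : ↥(⋀[R]^n M) →ₗ[R] M →ₗ[R] ↥(⋀[R]^(n + 1) M) :=
  LinearMap.mk₂ R (fun x m => ⟨x.1 * ExteriorAlgebra.ι R m, mul_mem R M n x m⟩)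
    (fun _ _ _ => Subtype.ext (add_mul _ _ _)) (fun _ _ _ => Subtype.ext (Algebra.smul_mul_assoc _ _ _))
    (fun _ _ _ => Subtype.ext (by simp [mul_add])) (fun _ _ _ => Subtype.ext (by simp))

theorem wedgeR_ιMulti (v : Fin n → M) (m : M) :
    wedgeR R M n (ιMulti R n v) m = ιMulti R (n + 1) (Fin.snoc v m) := by
  refine Subtype.ext ?_
  show ExteriorAlgebra.ιMulti R n v * ExteriorAlgebra.ι R m = ExteriorAlgebra.ιMulti R (n + 1) (Fin.snoc v m)
  rw [ExteriorAlgebra.ιMulti_apply, ExteriorAlgebra.ιMulti_apply, List.ofFn_succ', List.concat_eq_append,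
    List.prod_append, List.prod_singleton, Fin.snoc_last]
  simp only [Fin.snoc_castSucc]

end Alg

variable {X : Scheme.{u}} {n : ℕ} {E L L' : X.Modules}

set_option maxHeartbeats 1600000 in
/-- An exterior power is a quotient of the previous one tensored with the module. -/
theorem exists_epi_wedge [Coh.IsQCoh E] (h : ExtPow.IsExtPow n E L) (h' : ExtPow.IsExtPow (n + 1) E L') :
    ∃ π : CohB1.tensorMod L E ⟶ L', Epi π := by
  haveI := ExtPowLib.isQCoh_of_isExtPow h
  obtain ⟨φ, hφ⟩ := h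
  obtain ⟨φ', hφ'⟩ := h'
  let g : ∀ U : X.affineOpens, Γ(L, U.1) →ₗ[Γ(X, U.1)] Γ(E, U.1) →ₗ[Γ(X, U.1)] Γ(L', U.1) := fun U =>
    ((wedgeR Γ(X, U.1) Γ(E, U.1) n).comp (φ U).toLinearMap).compr₂ (φ' U).symm.toLinearMap
  let b : ∀ U : X.affineOpens, (Γ(L, U.1) ⊗[Γ(X, U.1)] Γ(E, U.1)) ≃ₗ[Γ(X, U.1)] Γ(CohB1.tensorMod L E, U.1) :=
    fun U => LinearEquiv.ofBijective (DetLib.betaA L E U.1) (DetLib.bijective_betaA L E U.2)
  let f : ∀ U : X.AffineZariskiSite, Γ(CohB1.tensorMod L E, U.1) →+ Γ(L', U.1) := fun U =>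
    ((TensorProduct.lift (g ⟨U.1, U.2⟩)).comp (b ⟨U.1, U.2⟩).symm.toLinearMap).toAddMonoidHom
  have hgen : ∀ (U : X.affineOpens) (v : Fin n → Γ(E, U.1)) (e : Γ(E, U.1)),
      g U ((φ U).symm (ιMulti Γ(X, U.1) n v)) e = (φ' U).symm (ιMulti Γ(X, U.1) (n + 1) (Fin.snoc v e)) := by
    intro U v e
    show (φ' U).symm (wedgeR Γ(X, U.1) Γ(E, U.1) n (φ U ((φ U).symm (ιMulti Γ(X, U.1) n v))) e) = _
    rw [(φ U).apply_symm_apply]
    exact congrArg (φ' U).symm (wedgeR_ιMulti _ _ n v e)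
  have hf : ∀ (U : X.affineOpens) (a : Γ(L, U.1)) (e : Γ(E, U.1)), f ⟨U.1, U.2⟩ (pairS L E a e) = g U a e := by
    intro U a e
    show TensorProduct.lift (g U) ((b U).symm (pairS L E a e)) = _
    rw [show pairS L E a e = b U (a ⊗ₜ e) from (DetLib.betaA_tmul L E U.1 a e).symm, (b U).symm_apply_apply,
      TensorProduct.lift.tmul]
  have key : ∀ (U V : X.affineOpens) (hVU : V.1 ≤ U.1) (a : Γ(L, U.1)) (e : Γ(E, U.1)),
      L'.presheaf.map (homOfLE hVU).op (g U a e) =
        g V (L.presheaf.map (homOfLE hVU).op a) (E.presheaf.map (homOfLE hVU).op e) := by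
    intro U V hVU a e
    rw [← (φ U).symm_apply_apply a]
    generalize φ U a = z
    refine ExtPowLib.induction_ιMulti n
      (P := fun z => L'.presheaf.map (homOfLE hVU).op (g U ((φ U).symm z) e) =
        g V (L.presheaf.map (homOfLE hVU).op ((φ U).symm z)) (E.presheaf.map (homOfLE hVU).op e)) ?_ ?_ ?_ z
    · simp
    · intro z w hz hw
      simp only [map_add, LinearMap.add_apply, hz, hw]
    · intro c v
      have h1 : L.presheaf.map (homOfLE hVU).op ((φ U).symm (c • ιMulti Γ(X, U.1) n v)) =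
          X.presheaf.map (homOfLE hVU).op c •
            (φ V).symm (ιMulti Γ(X, V.1) n fun j => E.presheaf.map (homOfLE hVU).op (v j)) :=
        ((congrArg (L.presheaf.map (homOfLE hVU).op) ((φ U).symm.map_smul c _)).trans
          (L.map_smul (homOfLE hVU) c _)).trans (congrArg _ (hφ U V hVU v))
      rw [h1, map_smul, map_smul, map_smul, LinearMap.smul_apply, LinearMap.smul_apply, hgen, hgen]
      refine (L'.map_smul (homOfLE hVU) c _).trans (congrArg _ ((hφ' U V hVU _).trans ?_))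
      refine congrArg (fun w => (φ' V).symm (ιMulti Γ(X, V.1) (n + 1) w)) (funext fun j => ?_)
      refine Fin.lastCases ?_ (fun i => ?_) j
      · simp only [Fin.snoc_last]; rfl
      · simp only [Fin.snoc_castSucc]; rfl
  obtain ⟨F, hF⟩ := ProjBundleLib.exists_hom_of_affine f (fun U hU r t => by
      obtain ⟨z, rfl⟩ := (b ⟨U, hU⟩).surjective t
      induction z using TensorProduct.induction_on with
      | zero => simp
      | tmul a e =>
        show L'.presheaf.map _ (f ⟨U, hU⟩ (DetLib.betaA L E U (a ⊗ₜ e))) =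
          f ⟨_, hU.basicOpen r⟩ ((CohB1.tensorMod L E).presheaf.map _ (DetLib.betaA L E U (a ⊗ₜ e)))
        rw [DetLib.betaA_tmul, hf ⟨U, hU⟩]
        refine Eq.trans ?_ (congrArg (f ⟨X.basicOpen r, hU.basicOpen r⟩) (res_pairS (X.basicOpen_le r) a e)).symm
        exact (key ⟨U, hU⟩ ⟨_, hU.basicOpen r⟩ (X.basicOpen_le r) a e).trans (hf ⟨_, hU.basicOpen r⟩ _ _).symm
      | add z w hz hw => simp only [map_add, hz, hw])
    (fun U a x => map_smul ((TensorProduct.lift (g ⟨U.1, U.2⟩)).comp (b ⟨U.1, U.2⟩).symm.toLinearMap) a x)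
  refine ⟨F, ⟨fun {T} u w huw => RelSpecLib.hom_ext_affine _ _ fun U hU s => ?_⟩⟩
  rw [← (φ' ⟨U, hU⟩).symm_apply_apply s]
  refine ExtPowLib.induction_ιMulti (n + 1)
    (P := fun z => u.app U ((φ' ⟨U, hU⟩).symm z) = w.app U ((φ' ⟨U, hU⟩).symm z)) ?_ ?_ ?_ _
  · simp
  · intro z y hz hy
    simp only [map_add, hz, hy]
  · intro c v
    have h1 : F.app U (pairS L E (c • (φ ⟨U, hU⟩).symm (ιMulti Γ(X, U) n (Fin.init v))) (v (Fin.last n))) =
        (φ' ⟨U, hU⟩).symm (c • ιMulti Γ(X, U) (n + 1) v) := by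
      rw [hF U hU, hf ⟨U, hU⟩, map_smul, map_smul, LinearMap.smul_apply, hgen ⟨U, hU⟩, Fin.snoc_init_self]
    show u.app U _ = w.app U _
    rw [← h1]
    exact congrArg (fun ψ : CohB1.tensorMod L E ⟶ T =>
      ψ.app U (pairS L E (c • (φ ⟨U, hU⟩).symm (ιMulti Γ(X, U) n (Fin.init v))) (v (Fin.last n)))) huw

end Groth.Agent.NefBundleLib
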