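import Groth.Agent.NefBundleLib.Deg
import Groth.Agent.VBLib.DualDeg
import Groth.Agent.CurveFF.Genus

/-! # Line quotients of tensor products of nef bundles on curves -/

set_option autoImplicit false
set_option backward.isDefEq.respectTransparency false
set_option linter.style.haveILetI false
set_option maxHeartbeats 1000000

universe u

open CategoryTheory CategoryTheory.Limits AlgebraicGeometry TopologicalSpace
open Groth.Agent.PullbackMod Groth.Agent.DevLib Groth.Agent.QCohLib Groth.Agent.DCohLib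
open Groth.Agent.VBLib Groth.Agent.VBLib.DualDeg

noncomputable section

namespace Groth.Agent.NefBundleLib

local instance hasHF {X : Scheme.{u}} (M : X.Modules) : ModSite.HasSheafHom (O := X.sheaf) M :=
  ModTensor.hasSheafHom (O := X.sheaf) M

variable (k : Type u) [Field k] {X : Scheme.{u}} [X.Over (Spec (CommRingCat.of k))]
  [IsProper (X ↘ Spec (CommRingCat.of k))] [IsIntegral X] [IsNoetherian X] [IsRegCurve X]

include k in
/-- An invertible submodule with a locally free quotient, over any field. -/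
theorem exists_line_sub (hdim : topologicalKrullDim X = 1) {n : ℕ} {E : X.Modules}
    (hE : FlatMod.IsFinLocFreeOfRank (n + 1) E) :
    ∃ (L Q : X.Modules) (f : L ⟶ E) (g : E ⟶ Q) (w : f ≫ g = 0), PicF.IsInvertible L ∧
      FlatMod.IsFinLocFreeOfRank n Q ∧ (ShortComplex.mk f g w).ShortExact := by
  have hEc := isCoh_of_rank hE
  obtain ⟨A, hA, hdA⟩ := CurveFF.exists_pos_deg k (X := X) hdim
  obtain ⟨L₀, m, φ, hL₀, hepi⟩ := Dual.exists_epi_lines k hdim hA hdA hE
  obtain ⟨j, hj⟩ : ∃ j, φ j ≠ 0 := by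
    by_contra hall
    push Not at hall
    haveI := hepi
    have hd0 : biproduct.desc φ = (0 : (⨁ fun _ : Fin m => L₀) ⟶ E) :=
      biproduct.hom_ext' _ _ fun i => by simp [hall i]
    exact nonzero_of_rank k (Nat.succ_pos n) hE
      ((IsZero.iff_id_eq_zero E).2 (by rw [← cancel_epi (biproduct.desc φ), hd0, zero_comp, zero_comp]))
  have hL₀c := CurveLib.isCoh_of_isInvertible hL₀
  have hL₀r := CurveLib.isFinLocFreeOfRank_one hL₀
  obtain ⟨I, a, b, hb, ha, hab, hI, -, h1, -⟩ := exists_image k (φ j) hL₀c hEc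
  haveI := hb
  have hI0 : grk I ≠ 0 := fun hz => hj (by
    rw [← hab, (isZero_of_mono b hI hE hz).eq_of_tgt a 0, zero_comp])
  rw [grk_of_rank hL₀r] at h1
  obtain ⟨hCc, hCr, -⟩ := coker_add k b hI hEc
  obtain ⟨Q, q, hq, hQc, hQf, hQr, -⟩ := exists_freeQuot k hdim.le hCc
  haveI := hq
  rw [grk_of_rank hE] at hCr
  rw [show grk Q = n by omega] at hQf
  let π : E ⟶ Q := cokernel.π b ≫ q
  haveI : Epi π := epi_comp _ _
  obtain ⟨hKc, hKr, -⟩ := kernel_add k π hEc hQc
  have hKf := rank_of_mono (kernel.ι π) hKc hE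
  rw [grk_of_rank hE, grk_of_rank hQf] at hKr
  rw [show grk (kernel π) = 1 by omega] at hKf
  exact ⟨kernel π, Q, kernel.ι π, π, kernel.condition π, isInvertible_of_rank hKf, hQf,
    ShortComplex.ShortExact.mk' (ShortComplex.exact_of_f_is_kernel _ (kernelIsKernel π)) inferInstance inferInstance⟩

include k in
/-- The dual has the opposite degree. -/
theorem deg_dd (hdim : topologicalKrullDim X = 1) {n : ℕ} {E : X.Modules}
    (hE : FlatMod.IsFinLocFreeOfRank n E) : Curv2.deg k X (dd E) n = - Curv2.deg k X E n := by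
  induction n generalizing E with
  | zero => rw [deg_rank_zero k hE, deg_rank_zero k (rank_dd hE), neg_zero]
  | succ n ih =>
    obtain ⟨L, Q, f, g, w, hL, hQ, hS⟩ := exists_line_sub k hdim hE
    have hLr := CurveLib.isFinLocFreeOfRank_one hL
    obtain ⟨h, hT⟩ := exists_dual_seq hS hLr hE hQ
    have hd := CurveLib.deg_shortExact (k := k) hS (n₁ := 1) (n₂ := n + 1) (n₃ := n)
      (isCoh_of_rank hLr) (isCoh_of_rank hE) (isCoh_of_rank hQ) (by ring)
    have hd' := CurveLib.deg_shortExact (k := k) hT (n₁ := n) (n₂ := n + 1) (n₃ := 1)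
      (isCoh_of_rank (rank_dd hQ)) (isCoh_of_rank (rank_dd hE)) (isCoh_of_rank (rank_dd hLr)) rfl
    change Curv2.deg k X E (n + 1) = Curv2.deg k X L 1 + Curv2.deg k X Q n at hd
    change Curv2.deg k X (dd E) (n + 1) = Curv2.deg k X (dd Q) n + Curv2.deg k X (dd L) 1 at hd'
    rw [deg_dd_line k hdim.le hL, ih hQ] at hd'
    rw [hd, hd']
    ring

/-- Tensoring a map on the right. -/
abbrev tl (C : X.Modules) {A A' : X.Modules} (z : A ⟶ A') : CohB1.tensorMod A C ⟶ CohB1.tensorMod A' C :=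
  ((DCoh.tensorBi (X := X)).flip.obj C).map z

/-- Tensoring a map on the left. -/
abbrev tr' (A : X.Modules) {C C' : X.Modules} (z : C ⟶ C') : CohB1.tensorMod A C ⟶ CohB1.tensorMod A C' :=
  ((DCoh.tensorBi (X := X)).obj A).map z

/-- The maps into an invertible module. -/
abbrev homL (B M : X.Modules) : X.Modules := (ModSite.sheafHom (O := X.sheaf) B).obj M

/-- The adjunction. -/
def curry (A B M : X.Modules) : (CohB1.tensorMod A B ⟶ M) ≃ (A ⟶ homL B M) :=
  (ModSite.sheafHomAdj (O := X.sheaf) B).homEquiv A M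

omit [IsProper (X ↘ Spec (CommRingCat.of k))] [IsIntegral X] [AlgebraicGeometry.IsNoetherian X] [IsRegCurve X]
  [X.Over (Spec (CommRingCat.of k))] in
theorem curry_tl {A A' B M : X.Modules} (z : A ⟶ A') (q : CohB1.tensorMod A' B ⟶ M) :
    curry A B M (tl B z ≫ q) = z ≫ curry A' B M q :=
  (ModSite.sheafHomAdj (O := X.sheaf) B).homEquiv_naturality_left z q

omit [IsProper (X ↘ Spec (CommRingCat.of k))] [IsIntegral X] [AlgebraicGeometry.IsNoetherian X] [IsRegCurve X]
  [X.Over (Spec (CommRingCat.of k))] in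
theorem curry_zero (A B M : X.Modules) : curry A B M 0 = 0 := by
  have h := curry_tl (A := A) (A' := A) (B := B) (M := M) 0 0
  rwa [comp_zero, zero_comp] at h

omit [IsProper (X ↘ Spec (CommRingCat.of k))] [IsIntegral X] [AlgebraicGeometry.IsNoetherian X] [IsRegCurve X]
  [X.Over (Spec (CommRingCat.of k))] in
theorem comm_tl {A A' B : X.Modules} (z : A ⟶ A') :
    tl B z ≫ (AmpleLib.comm A' B).hom = (AmpleLib.comm A B).hom ≫ tr' B z :=
  (ModTensor.tensorSymm X.sheaf B).hom.naturality z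

omit [IsProper (X ↘ Spec (CommRingCat.of k))] [IsIntegral X] [AlgebraicGeometry.IsNoetherian X] [IsRegCurve X]
  [X.Over (Spec (CommRingCat.of k))] in
theorem exchange {A A' B B' : X.Modules} (z : A ⟶ A') (w : B ⟶ B') :
    tr' A w ≫ tl B' z = tl B z ≫ tr' A' w :=
  ((DCoh.tensorBi (X := X)).map z).naturality w

include k in
/-- Rank and degree of the maps into an invertible module. -/
theorem homL_spec (hdim : topologicalKrullDim X = 1) {b : ℕ} {B M : X.Modules}
    (hB : FlatMod.IsFinLocFreeOfRank b B) (hM : PicF.IsInvertible M) :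
    FlatMod.IsFinLocFreeOfRank b (homL B M) ∧
      Curv2.deg k X (homL B M) b = b * Curv2.deg k X M 1 - Curv2.deg k X B b := by
  haveI := LocFreeHomLib.isIso_alpha B (flf_of_rank hB) M
  let e : CohB1.tensorMod (dd B) M ≅ homL B M :=
    AmpleLib.comm (dd B) M ≪≫ asIso (LocFreeHomLib.alpha B M)
  have hr := isFinLocFreeOfRank_twist (rank_dd hB) hM
  refine ⟨fun x => ?_, ?_⟩
  · obtain ⟨U, hx, ⟨t⟩⟩ := hr x
    exact ⟨U, hx, ⟨(Scheme.Modules.restrictFunctor U.ι).mapIso e.symm ≪≫ t⟩⟩
  · have h := CurveLib.deg_tensor_invertible (k := k) hdim.le (rank_dd hB) hM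
    change Curv2.deg k X (CohB1.tensorMod (dd B) M) b = _ at h
    rw [← CurveLib.deg_iso (k := k) e b, h, deg_dd k hdim hB]
    ring

include k in
/-- An invertible quotient of a tensor product of nef bundles has nonnegative degree. -/
theorem deg_nonneg_of_tensor_quot (hdim : topologicalKrullDim X = 1) {A B : X.Modules} {b : ℕ}
    (hA : Coh.IsCoh A) (hB : FlatMod.IsFinLocFreeOfRank b B) (hnA : QuotNef k A) (hnB : QuotNef k B)
    {M : X.Modules} (hM : PicF.IsInvertible M) (q : CohB1.tensorMod A B ⟶ M) (hq : Epi q) :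
    0 ≤ Curv2.deg k X M 1 := by
  haveI := hq
  have hMr := CurveLib.isFinLocFreeOfRank_one hM
  obtain ⟨hDB, -⟩ := homL_spec k hdim hB hM
  obtain ⟨Q, a, i, hi, ha, hai, hQc, -, -, -⟩ :=
    exists_image k (curry A B M q) hA (isCoh_of_rank hDB)
  haveI := hi
  haveI := ha
  have hQr := rank_of_mono i hQc hDB
  have hs : grk Q ≠ 0 := fun h0 => by
    have hq0 : q = 0 := (curry A B M).injective (by
      rw [curry_zero, ← hai, (isZero_of_mono i hQc hDB h0).eq_of_tgt a 0, zero_comp])
    exact nonzero_of_rank k Nat.one_pos hMr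
      ((IsZero.iff_id_eq_zero M).2 (by rw [← cancel_epi q, hq0, zero_comp, zero_comp]))
  obtain ⟨q', rfl⟩ := (curry Q B M).surjective i
  obtain ⟨hDQ, hdQ⟩ := homL_spec k hdim hQr hM
  obtain ⟨R, b', j, hj, hb, hbj, hRc, -, -, -⟩ :=
    exists_image k (curry B Q M ((AmpleLib.comm B Q).hom ≫ q')) (isCoh_of_rank hB) (isCoh_of_rank hDQ)
  haveI := hj
  haveI := hb
  have hRr := rank_of_mono j hRc hDQ
  obtain ⟨hDR, -⟩ := homL_spec k hdim hRr hM
  obtain ⟨v, rfl⟩ := (curry R Q M).surjective j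
  let q'' : CohB1.tensorMod Q R ⟶ M := (AmpleLib.comm R Q).inv ≫ v
  rw [← curry_tl, (curry B Q M).apply_eq_iff_eq] at hbj
  have hq' : tr' Q b' ≫ q'' = q' := by
    rw [← cancel_epi (AmpleLib.comm B Q).hom, ← hbj, ← Category.assoc, ← comm_tl, Category.assoc,
      Iso.hom_inv_id_assoc]
  let i' : Q ⟶ homL R M := curry Q R M q''
  haveI : Mono i' := Preadditive.mono_of_cancel_zero _ fun {Z} z hz => by
    have h1 : tl R z ≫ q'' = 0 := (curry Z R M).injective (by rw [curry_tl, curry_zero]; exact hz)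
    refine (cancel_mono (curry Q B M q')).1 ?_
    rw [zero_comp, ← curry_tl, ← hq', ← Category.assoc, ← exchange, Category.assoc, h1, comp_zero, curry_zero]
  obtain ⟨-, h1, -⟩ := coker_add k i' hQc (isCoh_of_rank hDR)
  obtain ⟨-, h2, -⟩ := coker_add k (curry R Q M v) hRc (isCoh_of_rank hDQ)
  rw [grk_of_rank hDR] at h1
  rw [grk_of_rank hDQ] at h2
  have hst : grk R = grk Q := by omega
  have hle := (dg_le_of_mono k hdim.le (curry R Q M v) hRc (isCoh_of_rank hDQ) (by rw [grk_of_rank hDQ, hst])).1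
  rw [dg_eq k hRr, dg_eq k hDQ, hdQ] at hle
  have h0 := deg_nonneg k hdim hQr (hnA.of_epi k a)
  have h0' := deg_nonneg k hdim hRr (hnB.of_epi k b')
  have hpos : (0 : ℤ) < (grk Q : ℤ) := by omega
  by_contra hneg
  push Not at hneg
  nlinarith

end Groth.Agent.NefBundleLib
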